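import Groth.Agent.WittDescLib.FullyFaithful
import Groth.Agent.ModEffLib.Main

/-!
# Morphisms of canonical descent data descend when equalized elements do
-/

set_option autoImplicit false
set_option maxHeartbeats 1000000

universe u

open CategoryTheory Opposite TensorProduct
open Groth.Agent.WittDescLib ModEffLib

noncomputable section

namespace UnivDescLib

/-- The image of an element under a morphism of canonical descent data is equalized. -/
theorem equalized_of_hom (W : CommRingCat.{u} ⥤ CommRingCat.{u}) {X Y T : CommRingCat.{u}} (f : X ⟶ Y)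
    (a b : Y ⟶ T) (q : X ⟶ T) (ha : f ≫ a = q) (hb : f ≫ b = q) {M N : ModuleCat.{u} (W.obj X)}
    (g : ((modPF W).toDescentData (fun _ : PUnit.{u + 1} => f.op)).obj M ⟶
      ((modPF W).toDescentData (fun _ : PUnit.{u + 1} => f.op)).obj N)
    (h : (ModuleCat.extendScalars (W.map f).hom).obj M ⟶ (ModuleCat.extendScalars (W.map f).hom).obj N)
    (hgh : g.hom PUnit.unit = h) (x : M) :
    (cmp W f a q ha N).inv (et (W.map a).hom _ 1 (h (et (W.map f).hom M 1 x))) =
      (cmp W f b q hb N).inv (et (W.map b).hom _ 1 (h (et (W.map f).hom M 1 x))) :=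
  have hc : (ModuleCat.extendScalars (W.map a).hom).map h ≫
          ((cmp W f a q ha N).inv ≫ (cmp W f b q hb N).hom) =
        ((cmp W f a q ha M).inv ≫ (cmp W f b q hb M).hom) ≫
          (ModuleCat.extendScalars (W.map b).hom).map h :=
    (conv_comm W f a b q ha hb h (g.hom PUnit.unit) hgh).mpr
      (comm_pseudofunctor f a b q (modPF W) g ha hb)
  inv_eq_of_comm (W.map f).hom h (cmp W f a q ha M) (cmp W f b q hb M) (cmp W f a q ha N)
    (cmp W f b q hb N) (cmp_et W f a q ha M) (cmp_et W f b q hb M) hc x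

/-- Morphisms of canonical descent data descend if equalized elements do. -/
theorem surjective_of_equalized (W : CommRingCat.{u} ⥤ CommRingCat.{u}) {X Y T : CommRingCat.{u}} (f : X ⟶ Y)
    (a b : Y ⟶ T) (q : X ⟶ T) (ha : f ≫ a = q) (hb : f ≫ b = q) (M N : ModuleCat.{u} (W.obj X))
    (hinj : Function.Injective (fun x : N => et (W.map f).hom N 1 x))
    (hex : ∀ y, (cmp W f a q ha N).inv (et (W.map a).hom _ 1 y) = (cmp W f b q hb N).inv (et (W.map b).hom _ 1 y) →
      ∃ x, et (W.map f).hom N 1 x = y) :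
    Function.Surjective (fun φ : M ⟶ N =>
      ((modPF W).toDescentData (fun _ : PUnit.{u + 1} => f.op)).map φ) := fun g => by
  have key : ∀ h : (ModuleCat.extendScalars (W.map f).hom).obj M ⟶ (ModuleCat.extendScalars (W.map f).hom).obj N,
      g.hom PUnit.unit = h → ∃ φ : M ⟶ N, (ModuleCat.extendScalars (W.map f).hom).map φ = h := fun h hgh => by
    choose n hn using fun x => hex _ (equalized_of_hom W f a b q ha hb g h hgh x)
    let φ : (M : Type u) →ₗ[W.obj X] (N : Type u) :=
      { toFun := n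
        map_add' := fun x y => hinj (by
          show et _ N 1 (n (x + y)) = et _ N 1 (n x + n y)
          rw [et_add, hn, hn, hn, et_add, map_add])
        map_smul' := fun r x => hinj (by
          show et _ N 1 (n (r • x)) = et _ N 1 (r • n x)
          rw [hn, et_smul, et_eq_smul, map_smul, ← hn, ← et_eq_smul, et_smul]) }
    exact ⟨ModuleCat.ofHom φ, hom_ext_et (W.map f).hom fun x =>
      (map_et (W.map f).hom (ModuleCat.ofHom φ) 1 x).trans (hn x)⟩
  obtain ⟨φ, hφ⟩ := key (g.hom PUnit.unit) rfl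
  exact ⟨φ, Pseudofunctor.DescentData.hom_ext fun _ => hφ⟩

/-- A bilinear map separating the two extensions shows that equalized elements come from the base. -/
theorem exists_et_of_sep {A B C : Type u} [CommRing A] [CommRing B] [CommRing C] (φ : A →+* B)
    {g₁ g₂ : B →+* C} (ψ : A →+* C) (N : ModuleCat.{u} A) {G : Type u} [AddCommGroup G]
    (p : C →+ N →+ G) (hlin : ∀ (r : A) (t : C) (x : N), p (ψ r * t) x = p t (r • x))
    (θ : (ModuleCat.extendScalars φ).obj N →+ G)
    (hp₁ : ∀ (b : B) (x : N), p (g₁ b) x = 0) (hθ : ∀ (b : B) (x : N), θ (et φ N b x) = p (g₂ b) x)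
    (hker : ∀ y, θ y = 0 → ∃ x, et φ N 1 x = y)
    (e₁ : (ModuleCat.extendScalars ψ).obj N ≅ (ModuleCat.extendScalars g₁).obj ((ModuleCat.extendScalars φ).obj N))
    (e₂ : (ModuleCat.extendScalars ψ).obj N ≅ (ModuleCat.extendScalars g₂).obj ((ModuleCat.extendScalars φ).obj N))
    (he₁ : ∀ x : N, e₁.hom (et ψ N 1 x) = et g₁ _ 1 (et φ N 1 x))
    (he₂ : ∀ x : N, e₂.hom (et ψ N 1 x) = et g₂ _ 1 (et φ N 1 x))
    (y : (ModuleCat.extendScalars φ).obj N)
    (hy : e₁.inv (et g₁ _ 1 y) = e₂.inv (et g₂ _ 1 y)) : ∃ x, et φ N 1 x = y := by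
  let L := liftEt ψ N p hlin
  have k₁ : ∀ z, L (e₁.inv (et g₁ _ 1 z)) = 0 := fun z => by
    induction z using et_induction with
    | h0 => rw [et_zero, map_zero e₁.inv.hom, map_zero]
    | hadd u v hu hv => rw [et_add, map_add e₁.inv.hom, map_add, hu, hv, add_zero]
    | ht b x => rw [inv_et _ N _ ψ e₁ he₁, one_mul, liftEt_et, hp₁]
  have k₂ : ∀ z, L (e₂.inv (et g₂ _ 1 z)) = θ z := fun z => by
    induction z using et_induction with
    | h0 => rw [et_zero, map_zero e₂.inv.hom, map_zero, map_zero]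
    | hadd u v hu hv => rw [et_add, map_add e₂.inv.hom, map_add, hu, hv, map_add]
    | ht b x => rw [inv_et _ N _ ψ e₂ he₂, one_mul, liftEt_et, hθ]
  exact hker y (by rw [← k₂, ← hy, k₁])

/-- Morphisms of canonical descent data descend if the two extensions are separated. -/
theorem surjective_of_sep (W : CommRingCat.{u} ⥤ CommRingCat.{u}) {X Y T : CommRingCat.{u}} (f : X ⟶ Y)
    (a b : Y ⟶ T) (q : X ⟶ T) (ha : f ≫ a = q) (hb : f ≫ b = q) (M N : ModuleCat.{u} (W.obj X))
    (hinj : Function.Injective (fun x : N => et (W.map f).hom N 1 x))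
    {G : Type u} [AddCommGroup G] (p : (W.obj T) →+ N →+ G)
    (hlin : ∀ (r : W.obj X) (t : W.obj T) (x : N), p ((W.map q).hom r * t) x = p t (r • x))
    (θ : (ModuleCat.extendScalars (W.map f).hom).obj N →+ G)
    (hp₁ : ∀ (c : W.obj Y) (x : N), p ((W.map a).hom c) x = 0)
    (hθ : ∀ (c : W.obj Y) (x : N), θ (et (W.map f).hom N c x) = p ((W.map b).hom c) x)
    (hker : ∀ y, θ y = 0 → ∃ x, et (W.map f).hom N 1 x = y) :
    Function.Surjective (fun φ : M ⟶ N =>
      ((modPF W).toDescentData (fun _ : PUnit.{u + 1} => f.op)).map φ) :=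
  surjective_of_equalized W f a b q ha hb M N hinj
    (exists_et_of_sep (W.map f).hom (W.map q).hom N p hlin θ hp₁ hθ hker (cmp W f a q ha N) (cmp W f b q hb N)
      (cmp_et W f a q ha N) (cmp_et W f b q hb N))

end UnivDescLib
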