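import Groth.Agent.UnivDescLib.Effective
import Groth.Agent.UnivDescLib.FullGen
import Groth.Prelude.Def_Desc

/-!
# Descent of modules along a ring map is an equivalence exactly for universally injective maps
-/

set_option autoImplicit false
set_option linter.style.haveILetI false
set_option maxHeartbeats 1000000

universe u

open CategoryTheory Opposite TensorProduct
open Groth.Agent.WittDescLib ModEffLib

noncomputable section

namespace UnivDescLib

variable {A B : Type u} [CommRing A] [CommRing B] [Algebra A B]

/-- The functor to descent data. -/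
abbrev toDD (A B : Type u) [CommRing A] [CommRing B] [Algebra A B] :=
  (modPF (𝟭 CommRingCat.{u})).toDescentData (fun _ : PUnit.{u + 1} => (CommRingCat.ofHom (algebraMap A B)).op)

/-- An extension of scalars as a tensor product. -/
def toTensor (N : ModuleCat.{u} A) : (ModuleCat.extendScalars (algebraMap A B)).obj N →+ B ⊗[A] (N : Type u) :=
  liftEt (algebraMap A B) N (AddMonoidHom.mk' (fun b => AddMonoidHom.mk' (fun v : N => b ⊗ₜ[A] v)
    fun v v' => TensorProduct.tmul_add b v v') fun b b' => AddMonoidHom.ext fun v => TensorProduct.add_tmul b b' v)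
    fun r b v => by
      show (algebraMap A B r * b) ⊗ₜ[A] v = b ⊗ₜ[A] (r • v)
      rw [← Algebra.smul_def, TensorProduct.smul_tmul]

theorem toTensor_et (N : ModuleCat.{u} A) (b : B) (x : N) : toTensor N (et (algebraMap A B) N b x) = b ⊗ₜ[A] x :=
  liftEt_et _ _ _ _ _ _

theorem toTensor_injective (N : ModuleCat.{u} A) : Function.Injective (toTensor (A := A) (B := B) N) := by
  let e' : B ⊗[A] (N : Type u) →+ (ModuleCat.extendScalars (algebraMap A B)).obj N :=
    TensorProduct.liftAddHom (etHom (algebraMap A B) N) fun r b v => by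
      show et _ N (r • b) v = et _ N b (r • v)
      rw [et_smul, Algebra.smul_def]
  have h : ∀ z, e' (toTensor N z) = z := fun z =>
    et_induction (algebraMap A B) (P := fun z => e' (toTensor N z) = z) (by rw [map_zero, map_zero])
      (fun b v => by rw [toTensor_et]; rfl) (fun x y hx hy => by rw [map_add, map_add, hx, hy]) z
  exact fun x y hxy => by rw [← h x, hxy, h]

theorem et_one_injective (hu : Pi1.UnivInjective A B) (N : ModuleCat.{u} A) :
    Function.Injective (fun x : N => et (algebraMap A B) N 1 x) := fun x y h => by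
  have h' : toTensor N (et (algebraMap A B) N 1 x) = toTensor N (et (algebraMap A B) N 1 y) := congrArg _ h
  rw [toTensor_et, toTensor_et] at h'
  exact one_tmul_injective hu N h'

theorem map_injective (hu : Pi1.UnivInjective A B) (M N : ModuleCat.{u} A) :
    Function.Injective (fun φ : M ⟶ N => (toDD A B).map φ) := fun φ ψ h =>
  ModuleCat.hom_ext (LinearMap.ext fun x => et_one_injective hu N (by
    have h1 := congrArg (fun k => k.hom PUnit.unit) h
    exact congrArg (fun k : (ModuleCat.extendScalars (algebraMap A B)).obj M ⟶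
      (ModuleCat.extendScalars (algebraMap A B)).obj N => k (et (algebraMap A B) M 1 x)) h1))

theorem faithful (hu : Pi1.UnivInjective A B) : (toDD A B).Faithful where
  map_injective {M N} := map_injective hu M N

theorem map_surjective (hu : Pi1.UnivInjective A B) (M N : ModuleCat.{u} A) :
    Function.Surjective (fun φ : M ⟶ N => (toDD A B).map φ) := by
  let η : (N : Type u) →ₗ[A] B ⊗[A] (N : Type u) := TensorProduct.mk A B N 1
  let Q := (B ⊗[A] (N : Type u)) ⧸ LinearMap.range η
  let π : B ⊗[A] (N : Type u) →ₗ[A] Q := (LinearMap.range η).mkQ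
  let p : B ⊗[A] B →+ N →+ B ⊗[A] Q :=
    AddMonoidHom.flip (AddMonoidHom.mk'
      (fun x : N => (LinearMap.lTensor B (π.comp ((TensorProduct.mk A B N).flip x))).toAddMonoidHom)
      (fun x x' => by
        refine AddMonoidHom.ext fun t => ?_
        show LinearMap.lTensor B _ t = LinearMap.lTensor B _ t + LinearMap.lTensor B _ t
        rw [map_add, LinearMap.comp_add, LinearMap.lTensor_add, LinearMap.add_apply]))
  have hp : ∀ (b c : B) (x : N), p (b ⊗ₜ[A] c) x = b ⊗ₜ[A] π (c ⊗ₜ[A] x) := fun _ _ _ => rfl
  have hlin : ∀ (r : A) (t : B ⊗[A] B) (x : N),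
      p ((i₁ (A := A) (B := B)).comp (algebraMap A B) r * t) x = p t (r • x) := fun r t x => by
    induction t using TensorProduct.induction_on with
    | zero => rw [mul_zero, map_zero p, AddMonoidHom.zero_apply, AddMonoidHom.zero_apply]
    | tmul b c =>
      show p ((algebraMap A B r ⊗ₜ[A] (1 : B)) * (b ⊗ₜ[A] c)) x = p (b ⊗ₜ[A] c) (r • x)
      rw [Algebra.TensorProduct.tmul_mul_tmul, one_mul, ← Algebra.smul_def, hp, hp,
        TensorProduct.tmul_smul r c x, map_smul, TensorProduct.tmul_smul, TensorProduct.smul_tmul']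
    | add s t hs ht => rw [mul_add, map_add p, map_add p, AddMonoidHom.add_apply, AddMonoidHom.add_apply, hs, ht]
  let θ : (ModuleCat.extendScalars (algebraMap A B)).obj N →+ B ⊗[A] Q :=
    ((TensorProduct.mk A B Q 1).comp π).toAddMonoidHom.comp (toTensor N)
  have hp₁ : ∀ (b : B) (x : N), p (i₁ (A := A) (B := B) b) x = 0 := fun b x => by
    show p (b ⊗ₜ[A] (1 : B)) x = 0
    rw [hp, show π ((1 : B) ⊗ₜ[A] x) = 0 from (Submodule.Quotient.mk_eq_zero _).2 ⟨x, rfl⟩,
      TensorProduct.tmul_zero]
  have hθ : ∀ (b : B) (x : N), θ (et (algebraMap A B) N b x) = p (i₂ (A := A) (B := B) b) x := fun b x => by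
    show (1 : B) ⊗ₜ[A] π (toTensor N (et (algebraMap A B) N b x)) = _
    rw [toTensor_et]
    exact (hp 1 b x).symm
  have hker : ∀ y, θ y = 0 → ∃ x, et (algebraMap A B) N 1 x = y := fun y hy => by
    have h0 : π (toTensor N y) = 0 := one_tmul_injective hu Q (hy.trans (map_zero _).symm)
    obtain ⟨x, hx⟩ := (Submodule.Quotient.mk_eq_zero _).1 h0
    exact ⟨x, toTensor_injective N ((toTensor_et N 1 x).trans hx)⟩
  exact surjective_of_sep (𝟭 CommRingCat.{u}) (CommRingCat.ofHom (algebraMap A B))
    (CommRingCat.ofHom (i₁ (A := A) (B := B))) (CommRingCat.ofHom (i₂ (A := A) (B := B)))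
    (CommRingCat.ofHom ((i₁ (A := A) (B := B)).comp (algebraMap A B))) rfl cond₀.symm M N
    (et_one_injective hu N) p hlin θ hp₁ hθ hker

theorem full (hu : Pi1.UnivInjective A B) : (toDD A B).Full where
  map_surjective {M N} := map_surjective hu M N

theorem essSurj (hu : Pi1.UnivInjective A B) : (toDD A B).EssSurj where
  mem_essImage D := by
    letI : Module A (ModEffLib.obj₀ D) := Module.compHom _ (algebraMap A B)
    haveI : IsScalarTower A B (ModEffLib.obj₀ D) := IsScalarTower.of_algebraMap_smul fun _ _ => rfl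
    obtain ⟨M, hM⟩ := exists_datum_iso D hu
    exact ⟨M, hM⟩

theorem isEquivalence (hu : Pi1.UnivInjective A B) : (toDD A B).IsEquivalence :=
  haveI := faithful hu; haveI := full hu; haveI := essSurj hu; { }

/-- A faithful functor to descent data forces universal injectivity. -/
theorem univInjective_of_faithful (h : (toDD A B).Faithful) : Pi1.UnivInjective A B := by
  intro P _ _
  let P' : ModuleCat.{u} A := ModuleCat.of A P
  let A' : ModuleCat.{u} A := ModuleCat.of A A
  rw [injective_iff_map_eq_zero]
  intro z hz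
  obtain ⟨p, rfl⟩ : ∃ p : P, p ⊗ₜ[A] (1 : A) = z :=
    ⟨TensorProduct.rid A P z, (TensorProduct.rid A P).injective (by simp)⟩
  have h1 : (1 : B) ⊗ₜ[A] p = 0 := (TensorProduct.comm A B P).injective (by
    rw [map_zero, TensorProduct.comm_tmul]; simpa using hz)
  have h2 : et (algebraMap A B) P' 1 p = 0 := toTensor_injective P' (by rw [toTensor_et, map_zero]; exact h1)
  let v : A' ⟶ P' := ModuleCat.ofHom (LinearMap.toSpanSingleton A P p)
  have hv : v = 0 := h.map_injective (Pseudofunctor.DescentData.hom_ext fun _ =>
    hom_ext_et (algebraMap A B) fun r => by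
      refine (map_et (algebraMap A B) v 1 r).trans (Eq.trans ?_ (map_et (algebraMap A B) (0 : A' ⟶ P') 1 r).symm)
      show et _ P' 1 (r • (p : P')) = et _ P' 1 0
      rw [et_smul, et_eq_smul, h2, smul_zero, et_zero])
  have hp : p = 0 := (one_smul A p).symm.trans (congrArg (fun k : A' ⟶ P' => k.hom (1 : A)) hv)
  rw [hp, TensorProduct.zero_tmul]

end UnivDescLib

namespace UnivDescLib

/-- The statement in terms of the descent pseudofunctor of rings. -/
theorem equivalence_iff (R S : Type u) [CommRing R] [CommRing S] [Algebra R S] :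
    (Pi1.UnivInjective R S ↔ (Desc.ringModPF.{u}.toDescentData
      (fun _ : PUnit.{u + 1} => (CommRingCat.ofHom (algebraMap R S)).op)).IsEquivalence) ∧
    (Nonempty (Desc.ringModPF.{u}.toDescentData
      (fun _ : PUnit.{u + 1} => (CommRingCat.ofHom (algebraMap R S)).op)).FullyFaithful → Pi1.UnivInjective R S) :=
  ⟨⟨fun h => isEquivalence h, fun h => univInjective_of_faithful h.faithful⟩,
    fun ⟨h⟩ => univInjective_of_faithful h.faithful⟩

end UnivDescLib
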