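import Mathlib
import Groth.Prelude.Def_Pi1
import Groth.Agent.S7412

/-!
# Equalizers along a universally injective ring map are preserved by tensor products
-/

set_option autoImplicit false
universe u

open TensorProduct

namespace UnivDescLib

variable {A B : Type u} [CommRing A] [CommRing B] [Algebra A B] (hu : Pi1.UnivInjective A B)

include hu in
theorem one_tmul_injective (N : Type u) [AddCommGroup N] [Module A N] :
    Function.Injective (TensorProduct.mk A B N 1) := fun x y h => by
  have h' : LinearMap.lTensor N (Algebra.linearMap A B) (x ⊗ₜ[A] 1) =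
      LinearMap.lTensor N (Algebra.linearMap A B) (y ⊗ₜ[A] 1) := by
    simpa using congrArg (TensorProduct.comm A B N) h
  simpa using congrArg (TensorProduct.rid A N) (hu N h')

/-- The splitting of the character modules of the units. -/
noncomputable def sec (σ : CharacterModule A →ₗ[A] CharacterModule B) (N : Type u) [AddCommGroup N]
    [Module A N] : CharacterModule N →ₗ[A] CharacterModule (B ⊗[A] N) :=
  { toFun := fun χ => CharacterModule.congr (TensorProduct.comm A N B) (CharacterModule.uncurry
      { toFun := fun n => σ (CharacterModule.dual (LinearMap.toSpanSingleton A N n) χ)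
        map_add' := fun m n => by
          rw [← map_add]; refine congrArg σ (DFunLike.ext _ _ fun r => ?_)
          show χ (r • (m + n)) = χ (r • m) + χ (r • n)
          rw [smul_add, map_add]
        map_smul' := fun c n => by
          rw [← map_smul]; refine congrArg σ (DFunLike.ext _ _ fun r => ?_)
          show χ (r • (c • n)) = χ ((c • r) • n)
          rw [smul_smul, smul_eq_mul, mul_comm] })
    map_add' := fun χ ψ => by
      rw [← map_add, ← map_add]
      refine congrArg _ (congrArg CharacterModule.uncurry (LinearMap.ext fun n => ?_))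
      show σ _ = σ _ + σ _
      rw [← map_add, map_add]
    map_smul' := fun c χ => by
      rw [← map_smul, ← map_smul]
      refine congrArg _ (congrArg CharacterModule.uncurry (LinearMap.ext fun n => ?_))
      show σ _ = c • σ _
      rw [← map_smul, map_smul] }

theorem sec_tmul (σ : CharacterModule A →ₗ[A] CharacterModule B) (N : Type u) [AddCommGroup N]
    [Module A N] (χ : CharacterModule N) (b : B) (n : N) :
    sec σ N χ (b ⊗ₜ[A] n) = σ (CharacterModule.dual (LinearMap.toSpanSingleton A N n) χ) b := rfl

theorem sec_natural (σ : CharacterModule A →ₗ[A] CharacterModule B) {N N' : Type u} [AddCommGroup N]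
    [Module A N] [AddCommGroup N'] [Module A N'] (h : N →ₗ[A] N') (χ : CharacterModule N') :
    sec σ N (CharacterModule.dual h χ) = CharacterModule.dual (h.lTensor B) (sec σ N' χ) := by
  refine DFunLike.ext _ _ fun x => ?_
  induction x using TensorProduct.induction_on with
  | zero => exact (map_zero _).trans (map_zero _).symm
  | tmul b n =>
    rw [sec_tmul]
    show _ = sec σ N' χ (b ⊗ₜ[A] h n)
    rw [sec_tmul]
    refine congrArg (fun φ => (σ φ) b) (DFunLike.ext _ _ fun r => ?_)
    show χ (h (r • n)) = χ (r • h n)
    rw [map_smul]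
  | add x y hx hy => rw [map_add, map_add, hx, hy]

theorem sec_unit (σ : CharacterModule A →ₗ[A] CharacterModule B)
    (hσ : (CharacterModule.dual (Algebra.linearMap A B)).comp σ = LinearMap.id)
    {N : Type u} [AddCommGroup N] [Module A N] (χ : CharacterModule N) :
    CharacterModule.dual (TensorProduct.mk A B N 1) (sec σ N χ) = χ := by
  refine DFunLike.ext _ _ fun n => ?_
  have h := DFunLike.congr_fun (LinearMap.congr_fun hσ (CharacterModule.dual (LinearMap.toSpanSingleton A N n) χ)) (1 : A)
  show sec σ N χ ((1 : B) ⊗ₜ[A] n) = χ n
  rw [sec_tmul]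
  have h' : σ (CharacterModule.dual (LinearMap.toSpanSingleton A N n) χ) (algebraMap A B 1) = χ ((1 : A) • n) := h
  rwa [map_one, one_smul] at h'

include hu in
/-- The kernel of the difference of a coaction and the unit is preserved by tensor products. -/
theorem exact_lTensor {N : Type u} [AddCommGroup N] [Module A N] (f : N →ₗ[A] B ⊗[A] N)
    (hf : ∀ u, LinearMap.lTensor B f (f u) = LinearMap.lTensor B (TensorProduct.mk A B N 1) (f u))
    (P : Type u) [AddCommGroup P] [Module A P] :
    Function.Injective (LinearMap.lTensor P (LinearMap.ker (f - TensorProduct.mk A B N 1)).subtype) ∧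
      Function.Exact (LinearMap.lTensor P (LinearMap.ker (f - TensorProduct.mk A B N 1)).subtype)
        (LinearMap.lTensor P (f - TensorProduct.mk A B N 1)) := by
  obtain ⟨σ, hσ⟩ := (Groth.Agent.S7412.result (Algebra.linearMap A B)).1 hu
  let g := TensorProduct.mk A B N 1
  let E := LinearMap.ker (f - g)
  let i : E →ₗ[A] N := E.subtype
  let t : CharacterModule N →ₗ[A] CharacterModule N := (CharacterModule.dual f).comp (sec σ N)
  have ht : t.comp (CharacterModule.dual (f - g)) = 0 := by
    refine LinearMap.ext fun χ => ?_
    show CharacterModule.dual f (sec σ N (CharacterModule.dual (f - g) χ)) = 0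
    rw [sec_natural]
    refine DFunLike.ext _ _ fun u => ?_
    show sec σ _ χ (LinearMap.lTensor B (f - g) (f u)) = 0
    rw [LinearMap.lTensor_sub, LinearMap.sub_apply, hf, sub_self, map_zero]
  have hker : ∀ χ : CharacterModule N, CharacterModule.dual i χ = 0 →
      ∃ ψ, CharacterModule.dual (f - g) ψ = χ := by
    intro χ hχ
    let q : (N ⧸ E) →ₗ[A] B ⊗[A] N := E.liftQ (f - g) le_rfl
    have hq : Function.Injective q := LinearMap.ker_eq_bot.1 (Submodule.ker_liftQ_eq_bot _ _ _ le_rfl)
    let χ' : CharacterModule (N ⧸ E) := QuotientAddGroup.lift E.toAddSubgroup χ fun n hn =>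
      AddMonoidHom.mem_ker.2 (DFunLike.congr_fun hχ ⟨n, hn⟩)
    obtain ⟨ψ, hψ⟩ := CharacterModule.dual_surjective_of_injective q hq χ'
    exact ⟨ψ, DFunLike.ext _ _ fun n => DFunLike.congr_fun hψ (Submodule.Quotient.mk n)⟩
  have hkill : ∀ χ : CharacterModule N, CharacterModule.dual i χ = 0 → t χ = 0 := fun χ hχ => by
    obtain ⟨ψ, rfl⟩ := hker χ hχ
    exact LinearMap.congr_fun ht ψ
  have hti : ∀ χ, CharacterModule.dual i (t χ) = CharacterModule.dual i χ := fun χ => by
    refine DFunLike.ext _ _ fun x => ?_
    have hx : f (x : N) = g x := sub_eq_zero.1 x.2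
    show sec σ N χ (f (x : N)) = χ (x : N)
    rw [hx]
    exact DFunLike.congr_fun (sec_unit σ hσ χ) (x : N)
  refine ⟨?_, fun z => ⟨fun hz => ?_, ?_⟩⟩
  · have hs : Function.Surjective (CharacterModule.dual i) :=
      CharacterModule.dual_surjective_of_injective i (Submodule.injective_subtype E)
    choose l hl using hs
    refine ((Groth.Agent.S7412.result i).2 ⟨{ toFun := fun c => t (l c)
                                              map_add' := fun a b => ?_
                                              map_smul' := fun r a => ?_ }, LinearMap.ext fun c => ?_⟩) P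
    · have h := hkill (l (a + b) - (l a + l b)) (by rw [map_sub, map_add, hl, hl, hl, sub_self])
      rwa [map_sub, sub_eq_zero, map_add] at h
    · have h := hkill (l (r • a) - r • l a) (by rw [map_sub, map_smul, hl, hl, sub_self])
      rwa [map_sub, sub_eq_zero, map_smul] at h
    · exact (hti (l c)).trans (hl c)
  · refine (Submodule.Quotient.mk_eq_zero (LinearMap.range (i.lTensor P))).1 ?_
    refine CharacterModule.eq_zero_of_character_apply fun c => ?_
    let χ : CharacterModule (P ⊗[A] N) := CharacterModule.dual (LinearMap.range (i.lTensor P)).mkQ c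
    let h : P →ₗ[A] CharacterModule N := CharacterModule.curry χ
    have h0 : ∀ p, CharacterModule.dual i (h p) = 0 := fun p => DFunLike.ext _ _ fun x => by
      show c (Submodule.Quotient.mk (p ⊗ₜ[A] (x : N))) = (0 : CharacterModule E) x
      have hm : p ⊗ₜ[A] (x : N) ∈ LinearMap.range (i.lTensor P) := ⟨p ⊗ₜ[A] x, rfl⟩
      rw [(Submodule.Quotient.mk_eq_zero _).2 hm, map_zero]
      rfl
    let H : P →ₗ[A] CharacterModule (B ⊗[A] N) := (sec σ N).comp h
    have key : χ = CharacterModule.dual ((g - f).lTensor P) (CharacterModule.uncurry H) := by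
      refine DFunLike.ext _ _ fun x => ?_
      induction x using TensorProduct.induction_on with
      | zero => simp
      | tmul p n =>
        show h p n = sec σ N (h p) (g n - f n)
        rw [map_sub]
        have h1 : sec σ N (h p) (f n) = 0 := DFunLike.congr_fun (hkill _ (h0 p)) n
        have h2 : sec σ N (h p) (g n) = h p n := DFunLike.congr_fun (sec_unit σ hσ (h p)) n
        rw [h1, h2, sub_zero]
      | add x y hx hy => rw [map_add, map_add, hx, hy]
    have h3 : (g - f).lTensor P z = 0 := by
      rw [← neg_sub f g, LinearMap.lTensor_neg, LinearMap.neg_apply, hz, neg_zero]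
    show χ z = 0
    rw [key]
    show CharacterModule.uncurry H ((g - f).lTensor P z) = 0
    rw [h3, map_zero]
  · rintro ⟨w, rfl⟩
    rw [← LinearMap.lTensor_comp_apply, show (f - g).comp i = 0 from LinearMap.ext fun x => x.2,
      LinearMap.lTensor_zero, LinearMap.zero_apply]

end UnivDescLib
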