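import Groth.Agent.UnivDescLib.Core
import Groth.Agent.ModEffLib.Final
import Groth.Agent.WittDescLib.FullyFaithful

/-!
# Descent of modules along universally injective ring maps
-/

set_option autoImplicit false
set_option linter.style.haveILetI false
set_option maxHeartbeats 1000000

universe u

open CategoryTheory Opposite TensorProduct
open Groth.Agent.WittDescLib ModEffLib

noncomputable section

namespace UnivDescLib

/-- A module with a cocycle gluing map descends along a universally injective map. -/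
theorem bijective_of_cocycle {A A' : Type u} [CommRing A] [CommRing A'] [Algebra A A']
    (hu : Pi1.UnivInjective A A') (M' : Type u) [AddCommGroup M'] [Module A M']
    [Module A' M'] [IsScalarTower A A' M']
    (φ : M' ⊗[A] A' →ₗ[A] A' ⊗[A] M') (hφ : Function.Bijective φ)
    (h1 : ∀ (x : A') (u : M') (z : A'),
      φ ((x • u) ⊗ₜ[A] z) = LinearMap.rTensor M' (LinearMap.mulLeft A x) (φ (u ⊗ₜ[A] z)))
    (hcoc : ∀ (u : M') (a b : A'),
      LinearMap.lTensor A' φ (TensorProduct.assoc A A' M' A' (LinearMap.rTensor A' φ ((u ⊗ₜ[A] a) ⊗ₜ[A] b))) =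
        LinearMap.lTensor A' (TensorProduct.mk A A' M' a) (φ (u ⊗ₜ[A] b)))
    (M : Submodule A M') (hM : ∀ u : M', u ∈ M ↔ φ (u ⊗ₜ[A] (1 : A')) = (1 : A') ⊗ₜ[A] u) :
    Function.Bijective
      ((TensorProduct.lift (Algebra.lsmul A A M').toLinearMap) ∘ₗ (LinearMap.lTensor A' M.subtype)) := by
  let ι₀ : M' →ₗ[A] A' ⊗[A] M' := φ ∘ₗ (TensorProduct.mk A M' A').flip 1
  let one' : M' →ₗ[A] A' ⊗[A] M' := TensorProduct.mk A A' M' 1
  let α := ι₀ - one'
  let μ : A' ⊗[A] M' →ₗ[A] M' := TensorProduct.lift (Algebra.lsmul A A M').toLinearMap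
  have hμ : ∀ a v, μ (a ⊗ₜ[A] v) = a • v := fun a v => rfl
  let q : A' ⊗[A] (A' ⊗[A] M') →ₗ[A] A' ⊗[A] M' :=
    TensorProduct.lift (LinearMap.mk₂ A (fun a z => LinearMap.rTensor M' (LinearMap.mulLeft A a) z)
      (fun a b z => by
        induction z with
        | zero => simp
        | tmul c v => simp [add_mul, TensorProduct.add_tmul]
        | add x y hx hy => simp only [map_add, hx, hy]; abel)
      (fun c a z => by
        induction z with
        | zero => simp
        | tmul b v => simp [TensorProduct.smul_tmul']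
        | add x y hx hy => simp only [map_add, smul_add, hx, hy])
      (fun a y z => map_add _ y z) (fun c a z => map_smul _ c z))
  have hqι : ∀ z, q (LinearMap.lTensor A' ι₀ z) = ι₀ (μ z) := fun z => by
    induction z with
    | zero => simp
    | tmul a v =>
      rw [hμ]
      show LinearMap.rTensor M' (LinearMap.mulLeft A a) (φ (v ⊗ₜ[A] 1)) = φ ((a • v) ⊗ₜ[A] 1)
      rw [h1]
    | add x y hx hy => simp only [map_add, hx, hy]
  have hq1 : ∀ z, q (LinearMap.lTensor A' one' z) = z := fun z => by
    induction z with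
    | zero => simp
    | tmul a v => simp [q, one']
    | add x y hx hy => simp only [map_add, hx, hy]
  have hK : ∀ z, LinearMap.lTensor A' α z = 0 ↔ LinearMap.lTensor A' ι₀ z = LinearMap.lTensor A' one' z := fun z => by
    rw [LinearMap.lTensor_sub, LinearMap.sub_apply, sub_eq_zero]
  have hback : ∀ z, LinearMap.lTensor A' α z = 0 → ι₀ (μ z) = z := fun z hz => by
    rw [← hqι, (hK z).1 hz, hq1]
  have hι : ∀ u, LinearMap.lTensor A' α (ι₀ u) = 0 := fun u => by
    rw [hK]
    have key : ∀ z : A' ⊗[A] M', TensorProduct.assoc A A' M' A' (z ⊗ₜ[A] (1 : A')) =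
        LinearMap.lTensor A' ((TensorProduct.mk A M' A').flip 1) z := fun z => by
      induction z with
      | zero => simp
      | tmul a v => rfl
      | add x y hx hy => rw [TensorProduct.add_tmul, map_add, map_add, hx, hy]
    have h := hcoc u 1 1
    rw [LinearMap.rTensor_tmul, key, ← LinearMap.lTensor_comp_apply] at h
    exact h
  have hμι : ∀ u, μ (ι₀ u) = u := fun u => by
    have h : ι₀ (μ (ι₀ u)) = ι₀ u := hback _ (hι u)
    have h' := hφ.1 h
    refine sub_eq_zero.1 ?_
    refine one_tmul_injective hu M' ?_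
    apply (TensorProduct.comm A A' M').injective
    rw [map_zero, TensorProduct.mk_apply, TensorProduct.comm_tmul, TensorProduct.sub_tmul,
      map_zero, sub_eq_zero]
    exact h'
  have hMK : M = LinearMap.ker α := SetLike.ext fun u => by
    rw [hM, LinearMap.mem_ker, LinearMap.sub_apply, sub_eq_zero]
    rfl
  subst hMK
  obtain ⟨hij, hex⟩ := exact_lTensor hu ι₀ (fun u => (hK _).1 (hι u)) A'
  refine ⟨fun x y hxy => ?_, fun u => ?_⟩
  · apply hij
    rw [← hback _ ((hex _).2 ⟨x, rfl⟩), ← hback _ ((hex _).2 ⟨y, rfl⟩)]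
    exact congrArg ι₀ hxy
  · obtain ⟨x, hx⟩ := (hex _).1 (hι u)
    exact ⟨x, show μ _ = u by rw [hx, hμι]⟩

variable {A B : Type u} [CommRing A] [CommRing B] [Algebra A B]

theorem bijective_inv (hu : Pi1.UnivInjective A B) (P : ModuleCat.{u} B) [Module A P] [IsScalarTower A B P]
    (d : (ModuleCat.extendScalars (i₁ (A := A) (B := B))).obj P ⟶
      (ModuleCat.extendScalars (i₂ (A := A) (B := B))).obj P) (hd : Function.Bijective d.hom)
    (hcoc : ∀ (u : P) (a b : B), LinearMap.lTensor B (phi P d)
        (TensorProduct.assoc A B P B (LinearMap.rTensor B (phi P d) ((u ⊗ₜ[A] a) ⊗ₜ[A] b))) =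
      LinearMap.lTensor B (TensorProduct.mk A B P a) (phi P d (u ⊗ₜ[A] b))) :
    Function.Bijective
      ((TensorProduct.lift (Algebra.lsmul A A P).toLinearMap) ∘ₗ (LinearMap.lTensor B (inv₀ P d).subtype)) :=
  bijective_of_cocycle hu P (phi P d) ((eps_bijective P).comp (hd.comp (theta_bijective P)))
    (fun x u z => phiAdd_smul_left P d x u z) hcoc (inv₀ P d) fun _ => Iff.rfl

variable (D : (modPF (𝟭 CommRingCat.{u})).DescentData (fun _ : PUnit.{u + 1} => (CommRingCat.ofHom (algebraMap A B)).op))
  [Module A (obj₀ D)] [IsScalarTower A B (obj₀ D)]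

/-- Descent data relative to a universally injective ring map are effective. -/
theorem exists_datum_iso (hu : Pi1.UnivInjective A B) :
    ∃ M : ModuleCat.{u} A, Nonempty (((modPF (𝟭 CommRingCat.{u})).toDescentData
      (fun _ : PUnit.{u + 1} => (CommRingCat.ofHom (algebraMap A B)).op)).obj M ≅ D) := by
  let N := inv₀ (obj₀ D) (d₀ D)
  let M : ModuleCat.{u} A := ModuleCat.of A N
  let p : B →+ N →+ obj₀ D := AddMonoidHom.mk' (fun b => AddMonoidHom.mk' (fun v => b • (v : obj₀ D))
    fun v v' => smul_add b (v : obj₀ D) v') fun b b' => AddMonoidHom.ext fun v => add_smul b b' (v : obj₀ D)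
  let θ : (ModuleCat.extendScalars (algebraMap A B)).obj M →+ obj₀ D :=
    liftEt (algebraMap A B) M p fun r b v => by
      show (algebraMap A B r * b) • (v : obj₀ D) = b • ((r • v : N) : obj₀ D)
      rw [Submodule.coe_smul, mul_smul, algebraMap_smul, smul_comm]
  let θl : (ModuleCat.extendScalars (algebraMap A B)).obj M →ₗ[B] obj₀ D :=
    { θ with
      map_smul' := fun c z => by
        show θ (c • z) = c • θ z
        refine et_induction (algebraMap A B) (P := fun z => θ (c • z) = c • θ z) ?_ (fun b v => ?_)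
          (fun x y hx hy => ?_) z
        · rw [smul_zero, map_zero, smul_zero]
        · rw [smul_et]
          exact mul_smul c b _
        · rw [smul_add, map_add, map_add, smul_add, hx, hy] }
  have hθ : Function.Bijective θl := by
    have hb := bijective_inv hu (obj₀ D) (d₀ D) (d₀_bijective D) (cocycle₀ D)
    let e : (ModuleCat.extendScalars (algebraMap A B)).obj M →+ B ⊗[A] N :=
      liftEt _ M (AddMonoidHom.mk' (fun b => AddMonoidHom.mk' (fun v : N => b ⊗ₜ[A] v)
        fun v v' => TensorProduct.tmul_add b v v') fun b b' => AddMonoidHom.ext fun v => TensorProduct.add_tmul b b' v)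
        fun r b v => by
          show (algebraMap A B r * b) ⊗ₜ[A] v = b ⊗ₜ[A] (r • v)
          rw [← Algebra.smul_def, TensorProduct.smul_tmul]
    let e' : B ⊗[A] N →+ (ModuleCat.extendScalars (algebraMap A B)).obj M :=
      TensorProduct.liftAddHom (etHom (algebraMap A B) M) fun r b v => by
        show et _ M (r • b) v = et _ M b (r • v)
        rw [et_smul, Algebra.smul_def]
    have hee : ∀ z, e' (e z) = z := fun z =>
      et_induction (algebraMap A B) (P := fun z => e' (e z) = z) (by rw [map_zero, map_zero])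
        (fun b v => rfl) (fun x y hx hy => by rw [map_add, map_add, hx, hy]) z
    have hee' : ∀ w, e (e' w) = w := fun w => by
      induction w using TensorProduct.induction_on with
      | zero => rw [map_zero, map_zero]
      | tmul b v => rfl
      | add x y hx hy => rw [map_add, map_add, hx, hy]
    have hcomp : ∀ z, θl z =
        ((TensorProduct.lift (Algebra.lsmul A A (obj₀ D)).toLinearMap) ∘ₗ (LinearMap.lTensor B N.subtype)) (e z) :=
      fun z => et_induction (algebraMap A B) (P := fun z => θl z =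
        ((TensorProduct.lift (Algebra.lsmul A A (obj₀ D)).toLinearMap) ∘ₗ (LinearMap.lTensor B N.subtype)) (e z))
        (by rw [map_zero θl, map_zero e, map_zero]) (fun b v => rfl)
        (fun x y hx hy => by rw [map_add θl, map_add e, map_add, hx, hy]) z
    rw [show (θl : _ → _) = _ ∘ e from funext hcomp]
    exact hb.comp ⟨fun x y h => by rw [← hee x, h, hee], fun w => ⟨e' w, hee' w⟩⟩
  let i₀ : (ModuleCat.extendScalars (algebraMap A B)).obj M ≅ obj₀ D := (LinearEquiv.ofBijective θl hθ).toModuleIso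
  refine ⟨M, ⟨isoMkOfObj (modPF (𝟭 CommRingCat.{u})) (CommRingCat.ofHom (algebraMap A B)).op i₀ ?_⟩⟩
  rintro ⟨T⟩ q a b hf₁ hf₂ p₁ p₂
  obtain ⟨a, rfl⟩ : ∃ a' : CommRingCat.of B ⟶ T, a'.op = a := ⟨a.unop, rfl⟩
  obtain ⟨b, rfl⟩ : ∃ b' : CommRingCat.of B ⟶ T, b'.op = b := ⟨b.unop, rfl⟩
  obtain ⟨q, rfl⟩ : ∃ q' : CommRingCat.of A ⟶ T, q'.op = q := ⟨q.unop, rfl⟩
  have ha : (CommRingCat.ofHom (algebraMap A B)) ≫ a = q := Quiver.Hom.op_inj hf₁
  have hb : (CommRingCat.ofHom (algebraMap A B)) ≫ b = q := Quiver.Hom.op_inj hf₂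
  refine (iso_comm_left (𝟭 CommRingCat.{u}) (CommRingCat.ofHom (algebraMap A B)) D i₀ a b q ha hb hf₁ hf₂).symm.trans (Eq.trans ?_ (iso_comm_right (𝟭 CommRingCat.{u}) (CommRingCat.ofHom (algebraMap A B)) D i₀ a b q ha hb))
  exact comm_abstract i₀ (dhom (𝟭 CommRingCat.{u}) (CommRingCat.ofHom (algebraMap A B)) D a b (ha.trans hb.symm)) (Groth.Agent.WittDescLib.cmp (𝟭 CommRingCat.{u}) (CommRingCat.ofHom (algebraMap A B)) a q ha M) (Groth.Agent.WittDescLib.cmp (𝟭 CommRingCat.{u}) (CommRingCat.ofHom (algebraMap A B)) b q hb M)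
    (cmp_et (𝟭 CommRingCat.{u}) (CommRingCat.ofHom (algebraMap A B)) a q ha M) (cmp_et (𝟭 CommRingCat.{u}) (CommRingCat.ofHom (algebraMap A B)) b q hb M) fun v => by
      have h1 : i₀.hom (et (algebraMap A B) M 1 v) = (v : N).1 := one_smul B _
      rw [h1]
      exact invariant D a b (ha.trans hb.symm) v.2

end UnivDescLib
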